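import Groth.Agent.ConsPts12.Range
import Groth.Agent.FDesc60.Topo2
import Groth.Prelude.Def_W4c2submetdescSubtr

/-! Pro-constructible sets, closures and specializations. -/

set_option autoImplicit false

universe u

open CategoryTheory AlgebraicGeometry TopologicalSpace Topology
open Groth.Agent.LimTop61 Groth.Agent.SpecSp50

namespace Groth.Agent.Subtr96

theorem isProConstructible_singleton {X : Scheme.{u}} (x : X) : ProCons.IsProConstructible ({x} : Set X) := by
  refine ConsPts12.isProConstructible_iff.mpr fun U hU => ?_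
  have : SpectralSpace (U : Scheme.{u}) := spectralSpace_of_isAffineOpen hU
  have hT2 : @T2Space _ (constructibleTopology (U : Scheme.{u})) := SpecSp50.t2Space_cons
  exact @Set.Finite.isClosed _ (constructibleTopology (U : Scheme.{u})) _ _
    ((Set.finite_singleton x).preimage U.ι.isOpenEmbedding.injective.injOn)

theorem isProConstructible_preimage {X Y : Scheme.{u}} (f : X ⟶ Y) {T : Set Y}
    (hT : ProCons.IsProConstructible T) : ProCons.IsProConstructible (f ⁻¹' T) :=
  ConsPts12.isProConstructible_iff.mpr ((ConsPts12.isProConstructible_iff.mp hT).preimage f)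

theorem exists_specializes {X : Scheme.{u}} {E : Set X} (hE : ProCons.IsProConstructible E) {η : X}
    (hη : η ∈ closure E) : ∃ z ∈ E, z ⤳ η := by
  obtain ⟨_, ⟨U, hU, rfl⟩, hxU, -⟩ :=
    X.isBasis_affineOpens.exists_subset_of_mem_open (Set.mem_univ η) isOpen_univ
  let V : X.Opens := U
  have : IsAffine (V : Scheme.{u}) := hU
  obtain ⟨X', g, _, hg⟩ := ConsPts12.exists_affine_range (isProConstructible_preimage V.ι hE)
  have h1 : (⟨η, (hxU : η ∈ V)⟩ : V) ∈ closure (Set.range g) := by
    rw [hg]
    exact V.ι.isOpenEmbedding.isOpenMap.preimage_closure_subset_closure_preimage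
      (show V.ι ⟨η, (hxU : η ∈ V)⟩ ∈ closure E from hη)
  have : QuasiCompact g := inferInstance
  obtain ⟨z, hz⟩ := FDesc60.exists_specializes_of_mem_closure_range g h1
  exact ⟨V.ι (g z), hg.le ⟨z, rfl⟩, hz.map V.ι.continuous⟩

theorem isSSubtrusive_iff_image_closure {X Y : Scheme.{u}} (f : X ⟶ Y) :
    Subtr.IsSSubtrusive f ↔
      ∀ Z : Set Y, ProCons.IsProConstructible Z → f '' closure (f ⁻¹' Z) = closure Z := by
  constructor
  · intro h Z hZ
    refine subset_antisymm ((image_closure_subset_closure_image f.continuous).trans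
      (closure_mono (Set.image_preimage_subset _ _))) fun y hy => ?_
    obtain ⟨y', hy', hs⟩ := exists_specializes hZ hy
    obtain ⟨x, x', hx, rfl, rfl⟩ := h hs
    exact ⟨x, hx.mem_closed isClosed_closure (subset_closure hy'), rfl⟩
  · intro h y y' hs
    have hy : y ∈ closure ({y'} : Set Y) := hs.mem_closure
    rw [← h _ (isProConstructible_singleton y')] at hy
    obtain ⟨x, hx, rfl⟩ := hy
    obtain ⟨x', hx', hxs⟩ :=
      exists_specializes (isProConstructible_preimage f (isProConstructible_singleton y')) hx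
    exact ⟨x, x', hxs, rfl, hx'⟩

theorem image_closure_preimage_eq_univ {X Y : Scheme.{u}} (f : X ⟶ Y) (hf : Subtr.IsSSubtrusive f)
    (U : Set Y) (hU : ∀ y : Y, (∀ y' : Y, y' ⤳ y → y' = y) → y ∈ U) :
    f '' closure (f ⁻¹' U) = Set.univ := by
  refine Set.eq_univ_of_forall fun y => ?_
  obtain ⟨y', hy', hmax⟩ : ∃ y' : Y, y' ⤳ y ∧ ∀ z : Y, z ⤳ y' → z = y' := by
    obtain ⟨Z, hZ, hsub⟩ :=
      exists_mem_irreducibleComponents_subset_of_isIrreducible {y} isIrreducible_singleton
    have hg := hZ.1.isGenericPoint_genericPoint (isClosed_of_mem_irreducibleComponents _ hZ)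
    refine ⟨hZ.1.genericPoint, hg.specializes (hsub rfl), fun z hz => ?_⟩
    have h1 : Z ⊆ closure {z} := by
      rw [← hg.def]
      exact specializes_iff_closure_subset.1 hz
    exact ((specializes_iff_mem_closure.2 (h1 hg.mem)).antisymm
      (hg.specializes (hZ.2 isIrreducible_singleton.closure h1 (subset_closure rfl)))).eq
  obtain ⟨x, x', hx, rfl, e⟩ := hf hy'
  exact ⟨x, hx.mem_closed isClosed_closure (subset_closure (show f x' ∈ U from e ▸ hU _ hmax)), rfl⟩

end Groth.Agent.Subtr96
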