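import Groth.Agent.Subtr96.Val
import Mathlib.AlgebraicGeometry.Morphisms.Flat
import Mathlib.AlgebraicGeometry.IdealSheaf.Subscheme
import Mathlib.AlgebraicGeometry.Properties
import Groth.Agent.Curves2.CurveComponents

/-! S-subtrusive morphisms over a valuation ring. -/

set_option autoImplicit false

universe u

open CategoryTheory CategoryTheory.Limits AlgebraicGeometry

namespace Groth.Agent.Subtr96

/-- An injective map from a valuation ring to a domain is flat. -/
theorem flat_of_injective {V W : Type u} [CommRing V] [IsDomain V] [ValuationRing V] [CommRing W]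
    [IsDomain W] (φ : V →+* W) (hφ : Function.Injective φ) : φ.Flat := by
  letI := φ.toAlgebra
  show Module.Flat V W
  rw [Module.Flat.flat_iff_torsion_eq_bot_of_isBezout, eq_bot_iff]
  rintro x ⟨⟨a, ha⟩, hax⟩
  have : φ a * x = 0 := hax
  exact (mul_eq_zero.1 this).resolve_left fun h0 =>
    nonZeroDivisors.ne_zero ha (hφ (h0.trans (map_zero _).symm))

theorem surjective_of_valuation_pair {V W : Type u} [CommRing V] [IsDomain V] [ValuationRing V]
    [CommRing W] [IsDomain W] [IsLocalRing W]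
    (g : Spec (CommRingCat.of W) ⟶ Spec (CommRingCat.of V)) (η : Spec (CommRingCat.of W))
    (hη : g η = (⟨⊥, Ideal.isPrime_bot⟩ : PrimeSpectrum V))
    (hc : g (IsLocalRing.closedPoint W) = IsLocalRing.closedPoint V) : Surjective g := by
  obtain ⟨φ, rfl⟩ := Spec.map_surjective g
  refine ⟨?_⟩
  have hinj : Function.Injective φ.hom := (injective_iff_map_eq_zero _).2 fun v hv => by
    have : v ∈ (PrimeSpectrum.comap φ.hom η).asIdeal := by
      show φ.hom v ∈ η.asIdeal
      rw [hv]; exact zero_mem _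
    rwa [show PrimeSpectrum.comap φ.hom η = _ from hη] at this
  letI := φ.hom.toAlgebra
  have : IsLocalHom (algebraMap V W) :=
    ((IsLocalRing.local_hom_TFAE φ.hom).out 0 4).2 (congrArg PrimeSpectrum.asIdeal hc)
  have : Module.Flat V W := flat_of_injective φ.hom hinj
  have : Module.FaithfullyFlat V W := Module.FaithfullyFlat.of_flat_of_isLocalHom
  exact PrimeSpectrum.comap_surjective_of_faithfullyFlat

theorem isSSubtrusive_of_flat {X Y : Scheme.{u}} (f : X ⟶ Y) [Flat f] [Surjective f] :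
    Subtr.IsSSubtrusive f := fun y y' hs => by
  obtain ⟨x, rfl⟩ := f.surjective y
  obtain ⟨x', hx', rfl⟩ := Flat.generalizingMap f hs
  exact ⟨x, x', hx', rfl, rfl⟩

theorem univSSubtrusive_of_comp {Z X Y : Scheme.{u}} (i : Z ⟶ X) (f : X ⟶ Y) [Flat (i ≫ f)]
    [Surjective (i ≫ f)] : Subtr.UnivSSubtrusive f := fun X' Y' i₁ i₂ f' H y y' hs => by
  have h1 : Subtr.IsSSubtrusive (pullback.snd (i ≫ f) i₂) := isSSubtrusive_of_flat _
  obtain ⟨p, p', hp, hp1, hp2⟩ := h1 hs
  let l : pullback (i ≫ f) i₂ ⟶ X' :=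
    H.lift (pullback.snd _ _) (pullback.fst _ _ ≫ i) (by rw [Category.assoc, pullback.condition])
  have hl : ∀ q, f' (l q) = pullback.snd (i ≫ f) i₂ q := fun q => by
    rw [← Scheme.Hom.comp_apply, H.lift_fst]
  exact ⟨l p, l p', hp.map l.continuous, by rw [hl, hp1], by rw [hl, hp2]⟩

set_option backward.isDefEq.respectTransparency.types false in
theorem flat_to_valuation {V : Type u} [CommRing V] [IsDomain V] [ValuationRing V] {Z : Scheme.{u}}
    [IsIntegral Z] (g : Z ⟶ Spec (CommRingCat.of V))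
    (hg : g (genericPoint Z) = (⟨⊥, Ideal.isPrime_bot⟩ : PrimeSpectrum V)) : Flat g := by
  suffices h : ∀ (R : CommRingCat.{u}) (j : Spec R ⟶ Z) [IsOpenImmersion j], Flat (j ≫ g) from
    (IsZariskiLocalAtSource.iff_of_openCover (P := @Flat) Z.affineCover).2 fun i => @h _ (Z.affineCover.f i) (Z.affineCover.map_prop i)
  intro R j _
  obtain ⟨φ, hφ⟩ := Spec.map_surjective (j ≫ g)
  rw [← hφ, HasRingHomProperty.Spec_iff (P := @Flat)]
  rcases subsingleton_or_nontrivial R with h | h
  · letI := φ.hom.toAlgebra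
    show Module.Flat V R
    infer_instance
  · have : Nonempty (Spec R) := inferInstanceAs (Nonempty (PrimeSpectrum R))
    have : IsIntegral (Spec R) := isIntegral_of_isOpenImmersion j
    have : IsDomain R := (affine_isIntegral_iff R).1 ‹_›
    refine flat_of_injective φ.hom ((injective_iff_map_eq_zero _).2 fun v hv => ?_)
    have h1 : Spec.map φ (genericPoint (Spec R)) = (⟨⊥, Ideal.isPrime_bot⟩ : PrimeSpectrum V) := by
      rw [hφ, Scheme.Hom.comp_apply, genericPoint_eq_of_isOpenImmersion]; exact hg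
    have : v ∈ (PrimeSpectrum.comap φ.hom (genericPoint (Spec R))).asIdeal := by
      show φ.hom v ∈ (genericPoint (Spec R)).asIdeal
      rw [hv]; exact zero_mem _
    rwa [show PrimeSpectrum.comap φ.hom (genericPoint (Spec R)) = _ from h1] at this

theorem tfae_valuation (V : Type u) [CommRing V] [IsDomain V] [ValuationRing V] {X : Scheme.{u}}
    (f : X ⟶ Spec (CommRingCat.of V)) : List.TFAE
    [Subtr.UnivSSubtrusive f, Subtr.IsSSubtrusive f,
      ∀ y : Spec (CommRingCat.of V), ∃ x : X, x ∈ closure (f ⁻¹' {(⟨⊥, Ideal.isPrime_bot⟩ : PrimeSpectrum V)}) ∧ f x = y,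
      ∃ x x' : X, x' ⤳ x ∧ f x = IsLocalRing.closedPoint V ∧ f x' = (⟨⊥, Ideal.isPrime_bot⟩ : PrimeSpectrum V),
      ∃ (W : Type u) (_ : CommRing W) (_ : IsDomain W) (_ : ValuationRing W) (g : Spec (CommRingCat.of W) ⟶ X), Surjective (g ≫ f),
      ∃ (Z : Scheme.{u}) (i : Z ⟶ X), IsClosedImmersion i ∧ Flat (i ≫ f) ∧ Surjective (i ≫ f)] := by
  let η : Spec (CommRingCat.of V) := (⟨⊥, Ideal.isPrime_bot⟩ : PrimeSpectrum V)
  have hη : ∀ y : Spec (CommRingCat.of V), η ⤳ y := fun y =>
    (PrimeSpectrum.le_iff_specializes η y).1 bot_le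
  tfae_have 1 → 2 := fun h => h (𝟙 X) (𝟙 _) f (IsPullback.of_id_snd)
  tfae_have 2 → 3 := fun h y => by
    obtain ⟨x, x', hx, e, e'⟩ := h (hη y)
    exact ⟨x, hx.mem_closed isClosed_closure (subset_closure e'), e⟩
  tfae_have 3 → 4 := fun h => by
    obtain ⟨x, hx, e⟩ := h (IsLocalRing.closedPoint V)
    obtain ⟨x', hx', hs⟩ :=
      exists_specializes (isProConstructible_preimage f (isProConstructible_singleton η)) hx
    exact ⟨x, x', hs, e, hx'⟩
  tfae_have 4 → 5 := by
    rintro ⟨x, x', hs, e, e'⟩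
    obtain ⟨W, _, _, _, g, ξ, hξ, hc⟩ := exists_valuation_pair hs
    refine ⟨W, inferInstance, inferInstance, inferInstance, g, surjective_of_valuation_pair _ ξ ?_ ?_⟩
    · rw [Scheme.Hom.comp_apply, hξ]; exact e'
    · exact (Scheme.Hom.comp_apply g f _).trans ((congrArg f hc).trans e)
  tfae_have 5 → 4 := by
    rintro ⟨W, _, _, _, g, hg⟩
    obtain ⟨q, hq⟩ := hg.surj (IsLocalRing.closedPoint V)
    obtain ⟨q', hq'⟩ := hg.surj η
    let ξ : Spec (CommRingCat.of W) := (⟨⊥, Ideal.isPrime_bot⟩ : PrimeSpectrum W)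
    have hξ : ∀ r : Spec (CommRingCat.of W), ξ ⤳ r := fun r =>
      (PrimeSpectrum.le_iff_specializes ξ r).1 bot_le
    refine ⟨g q, g ξ, (hξ q).map g.continuous, hq, ?_⟩
    have h1 : (g ≫ f) ξ ⤳ η := hq' ▸ (hξ q').map (g ≫ f).continuous
    exact ((h1.antisymm (hη _)).eq : _)
  tfae_have 4 → 6 := by
    rintro ⟨x, x', hs, e, e'⟩
    let C : TopologicalSpace.Closeds X := ⟨closure {x'}, isClosed_closure⟩
    let I := Scheme.IdealSheafData.vanishingIdeal C
    have : IsIntegral I.subscheme := Curves2.isIntegral_vanishingIdeal C isIrreducible_singleton.closure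
    have hr : Set.range I.subschemeι = closure {x'} := Curves2.range_vanishingIdeal C
    obtain ⟨z, hz⟩ := hr.ge hs.mem_closure
    obtain ⟨z', hz'⟩ := hr.ge (subset_closure rfl)
    have hgen : I.subschemeι (genericPoint I.subscheme) = x' := by
      have h1 : I.subschemeι (genericPoint I.subscheme) ⤳ x' :=
        hz' ▸ (genericPoint_specializes z').map I.subschemeι.continuous
      exact (h1.antisymm (specializes_iff_mem_closure.2 (hr.le ⟨_, rfl⟩))).eq
    have : Flat (I.subschemeι ≫ f) := flat_to_valuation _ (by rw [Scheme.Hom.comp_apply, hgen]; exact e')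
    refine ⟨I.subscheme, I.subschemeι, inferInstance, this, ⟨fun y => ?_⟩⟩
    have hy : y ⤳ (I.subschemeι ≫ f) z := by
      rw [Scheme.Hom.comp_apply, hz, e]
      exact IsLocalRing.specializes_closedPoint y
    obtain ⟨w, -, hw⟩ := Flat.generalizingMap (I.subschemeι ≫ f) hy
    exact ⟨w, hw⟩
  tfae_have 6 → 1 := fun ⟨Z, i, _, _, _⟩ => univSSubtrusive_of_comp i f
  tfae_finish

end Groth.Agent.Subtr96
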