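import Groth.Agent.Subtr96.Closure
import Mathlib.RingTheory.DiscreteValuationRing.Basic

/-! Submersions onto the spectrum of a discrete valuation ring. -/

set_option autoImplicit false

universe u

open CategoryTheory AlgebraicGeometry Topology

namespace Groth.Agent.Subtr96

theorem dvr_cases (V : Type u) [CommRing V] [IsDomain V] [IsDiscreteValuationRing V]
    (p : PrimeSpectrum V) : p.asIdeal = ⊥ ∨ p = IsLocalRing.closedPoint V :=
  (eq_or_ne p.asIdeal ⊥).imp_right fun h =>
    PrimeSpectrum.ext (IsLocalRing.eq_maximalIdeal (p.2.isMaximal h))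

theorem isQuotientMap_iff_dvr (V : Type u) [CommRing V] [IsDomain V] [IsDiscreteValuationRing V]
    {X : Scheme.{u}} (f : X ⟶ Spec (CommRingCat.of V)) :
    IsQuotientMap f ↔ Subtr.IsSSubtrusive f := by
  let η : PrimeSpectrum V := ⟨⊥, Ideal.isPrime_bot⟩
  let s := IsLocalRing.closedPoint V
  have hη : η ≠ s := fun h => IsDiscreteValuationRing.not_a_field V (congrArg PrimeSpectrum.asIdeal h).symm
  have two : ∀ p : PrimeSpectrum V, p = η ∨ p = s := fun p =>
    (dvr_cases V p).imp_left fun h => PrimeSpectrum.ext h
  rw [isQuotientMap_iff]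
  constructor
  · rintro ⟨hq, hsurj⟩ y y' hs
    rcases eq_or_ne y y' with rfl | hne
    · obtain ⟨x, rfl⟩ := hsurj y
      exact ⟨x, x, specializes_rfl, rfl, rfl⟩
    · have hns : ¬ (s : PrimeSpectrum V) ⤳ η := fun h =>
        hη (h.antisymm (IsLocalRing.specializes_closedPoint η)).eq.symm
      obtain ⟨rfl, rfl⟩ : y = s ∧ y' = η := by
        rcases two y with h | h <;> rcases two y' with h' | h' <;> subst h <;> subst h'
        all_goals first | exact absurd rfl hne | exact absurd hs hns | exact ⟨rfl, rfl⟩
      by_contra hc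
      push Not at hc
      have hcl : IsClosed (f ⁻¹' {η}) := by
        rw [← closure_subset_iff_isClosed]
        intro x hx
        obtain ⟨x', hx', hxs⟩ := exists_specializes (isProConstructible_preimage f (isProConstructible_singleton η)) hx
        rcases two (f x) with h | h
        · exact h
        · exact absurd hx' (hc x x' hxs h)
      have : IsClosed ({η} : Set (PrimeSpectrum V)) := by
        rw [← isOpen_compl_iff]
        exact (isCoinducing_iff.1 hq _).1 (hcl.isOpen_compl)
      exact hη.symm ((IsLocalRing.specializes_closedPoint η).mem_closed this rfl)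
  · intro h
    refine ⟨isCoinducing_iff.2 fun U => ⟨fun hU => ?_, fun hU => hU.preimage f.continuous⟩, fun y => ?_⟩
    swap
    · obtain ⟨x, -, -, hx, -⟩ := h (specializes_refl y)
      exact ⟨x, hx⟩
    have hgen : s ∈ U → η ∈ U := fun hsU => by
      obtain ⟨x, x', hxs, e, e'⟩ := h (IsLocalRing.specializes_closedPoint η)
      exact e' ▸ hxs.mem_open hU (show f x ∈ U from e.symm ▸ hsU)
    by_cases hsU : s ∈ U
    · have : U = Set.univ := Set.eq_univ_of_forall fun p =>
        (two p).elim (fun e => e.symm ▸ hgen hsU) (fun e => e.symm ▸ hsU)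
      rw [this]; exact isOpen_univ
    · by_cases hηU : η ∈ U
      · have : U = ({s} : Set (PrimeSpectrum V))ᶜ := Set.ext fun p =>
          ⟨fun hp e => hsU (Set.mem_singleton_iff.1 e ▸ hp), fun hp => (two p).elim (fun e => e.symm ▸ hηU) fun e => absurd e hp⟩
        rw [this]
        exact ((PrimeSpectrum.isClosed_singleton_iff_isMaximal s).2 (IsLocalRing.maximalIdeal.isMaximal V)).isOpen_compl
      · have : U = ∅ := Set.eq_empty_of_forall_notMem fun p hp => (two p).elim (fun e => hηU (e ▸ hp)) fun e => hsU (e ▸ hp)
        rw [this]; exact isOpen_empty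

end Groth.Agent.Subtr96
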