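import Groth.Agent.Subtr96.Closure
import Mathlib.AlgebraicGeometry.ValuativeCriterion
import Mathlib.RingTheory.Flat.TorsionFree
import Mathlib.RingTheory.Flat.FaithfullyFlat.Algebra

/-! S-subtrusive morphisms and valuation rings. -/

set_option autoImplicit false

universe u

open CategoryTheory CategoryTheory.Limits AlgebraicGeometry

namespace Groth.Agent.Subtr96

set_option backward.isDefEq.respectTransparency.types false in
/-- A pair of points `y' ⤳ y` is hit by the spectrum of a valuation ring. -/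
theorem exists_valuation_pair {Y : Scheme.{u}} {y y' : Y} (h : y' ⤳ y) :
    ∃ (V : Type u) (_ : CommRing V) (_ : IsDomain V) (_ : ValuationRing V)
      (g : Spec (CommRingCat.of V) ⟶ Y) (η : Spec (CommRingCat.of V)),
      g η = y' ∧ g (IsLocalRing.closedPoint V) = y := by
  let φ : Y.presheaf.stalk y ⟶ Y.residueField y' := Y.presheaf.stalkSpecializes h ≫ Y.residue y'
  obtain ⟨A, hA, hA_local⟩ := IsLocalRing.exists_factor_valuationRing φ.hom
  let ψ : Y.presheaf.stalk y ⟶ CommRingCat.of A := CommRingCat.ofHom (φ.hom.codRestrict _ hA)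
  have w : Y.fromSpecResidueField y' =
      Spec.map (CommRingCat.ofHom (algebraMap A (Y.residueField y'))) ≫
        Spec.map ψ ≫ Y.fromSpecStalk y := by
    rw [Scheme.fromSpecResidueField, ← Scheme.SpecMap_stalkSpecializes_fromSpecStalk h]
    simp_rw [← Spec.map_comp_assoc]
    rfl
  refine ⟨A, inferInstance, inferInstance, inferInstance, Spec.map ψ ≫ Y.fromSpecStalk y,
    Spec.map (CommRingCat.ofHom (algebraMap A (Y.residueField y')))
      (IsLocalRing.closedPoint (Y.residueField y')), ?_, ?_⟩
  · rw [← Scheme.Hom.comp_apply, ← w]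
    exact Scheme.fromSpecResidueField_apply y' _
  · rw [Scheme.Hom.comp_apply]
    have : Spec.map ψ (IsLocalRing.closedPoint A) = IsLocalRing.closedPoint (Y.presheaf.stalk y) :=
      IsLocalRing.comap_closedPoint (S := A) (φ.hom.codRestrict A.toSubring hA)
    rw [this, Y.fromSpecStalk_closedPoint]

theorem univSSubtrusive_iff_valuation {X Y : Scheme.{u}} (f : X ⟶ Y) :
    Subtr.UnivSSubtrusive f ↔ ∀ (V : Type u) [CommRing V] [IsDomain V] [ValuationRing V]
      (g : Spec (CommRingCat.of V) ⟶ Y), Subtr.IsSSubtrusive (pullback.snd f g) := by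
  refine ⟨fun h V _ _ _ g => h (pullback.fst f g) g (pullback.snd f g) (IsPullback.of_hasPullback f g).flip,
    fun h X' Y' i₁ i₂ f' H y y' hs => ?_⟩
  obtain ⟨V, _, _, _, g, η, hη, hc⟩ := exists_valuation_pair hs
  obtain ⟨p, p', hp, hp1, hp2⟩ := h V (g ≫ i₂) (IsLocalRing.specializes_closedPoint η)
  let l : pullback f (g ≫ i₂) ⟶ X' :=
    H.lift (pullback.snd _ _ ≫ g) (pullback.fst _ _) (by rw [pullback.condition, Category.assoc])
  have hl : ∀ q, f' (l q) = g (pullback.snd f (g ≫ i₂) q) := fun q => by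
    rw [← Scheme.Hom.comp_apply, H.lift_fst, Scheme.Hom.comp_apply]
  exact ⟨l p, l p', hp.map l.continuous, by rw [hl, hp1, hc], by rw [hl, hp2, hη]⟩

theorem univSSubtrusive_iff_valuation_lift {X Y : Scheme.{u}} (f : X ⟶ Y) :
    Subtr.UnivSSubtrusive f ↔ ∀ (V : Type u) [CommRing V] [IsDomain V] [ValuationRing V]
      (g : Spec (CommRingCat.of V) ⟶ Y),
      ∃ (V' : Type u) (_ : CommRing V') (_ : IsDomain V') (_ : ValuationRing V')
        (a : Spec (CommRingCat.of V') ⟶ X) (b : Spec (CommRingCat.of V') ⟶ Spec (CommRingCat.of V)),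
        Surjective b ∧ a ≫ f = b ≫ g := by
  constructor
  · intro h V _ _ _ g
    obtain ⟨p, p', hp, hp1, hp2⟩ := (univSSubtrusive_iff_valuation f).1 h V g
      (IsLocalRing.specializes_closedPoint (⟨⊥, Ideal.isPrime_bot⟩ : PrimeSpectrum V))
    obtain ⟨V', _, _, _, c, η', hη', hc'⟩ := exists_valuation_pair hp
    refine ⟨V', inferInstance, inferInstance, inferInstance, c ≫ pullback.fst f g,
      c ≫ pullback.snd f g, ⟨?_⟩, by rw [Category.assoc, Category.assoc, pullback.condition]⟩
    obtain ⟨φ, hφ⟩ := Spec.map_surjective (c ≫ pullback.snd f g)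
    have h1 : PrimeSpectrum.comap φ.hom η' = (⟨⊥, Ideal.isPrime_bot⟩ : PrimeSpectrum V) := by
      show Spec.map φ η' = _
      rw [hφ, Scheme.Hom.comp_apply, hη']; exact hp2
    have h2 : PrimeSpectrum.comap φ.hom (IsLocalRing.closedPoint V') = IsLocalRing.closedPoint V := by
      show Spec.map φ _ = _
      rw [hφ]
      exact (Scheme.Hom.comp_apply _ _ _).trans ((congrArg _ hc').trans hp1)
    have hinj : Function.Injective φ.hom := (injective_iff_map_eq_zero _).2 fun v hv => by
      have : v ∈ (PrimeSpectrum.comap φ.hom η').asIdeal := by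
        show φ.hom v ∈ η'.asIdeal
        rw [hv]; exact zero_mem _
      rwa [h1] at this
    letI := φ.hom.toAlgebra
    have : IsLocalHom (algebraMap V V') := ((IsLocalRing.local_hom_TFAE φ.hom).out 0 4).2 (congrArg PrimeSpectrum.asIdeal h2)
    have : Module.Flat V V' := by
      rw [Module.Flat.flat_iff_torsion_eq_bot_of_isBezout, eq_bot_iff]
      rintro x ⟨⟨a, ha⟩, hax⟩
      have : φ.hom a * x = 0 := hax
      exact (mul_eq_zero.1 this).resolve_left fun h0 =>
        nonZeroDivisors.ne_zero ha (hinj (h0.trans (map_zero _).symm))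
    have : Module.FaithfullyFlat V V' := Module.FaithfullyFlat.of_flat_of_isLocalHom
    rw [← hφ]
    exact PrimeSpectrum.comap_surjective_of_faithfullyFlat
  · intro h
    refine (univSSubtrusive_iff_valuation f).2 fun V _ _ _ g y y' hs => ?_
    obtain ⟨V', _, _, _, a, b, hb, e⟩ := h V g
    let l := pullback.lift a b e
    have hl : ∀ q, pullback.snd f g (l q) = b q := fun q => by
      rw [← Scheme.Hom.comp_apply, pullback.lift_snd]
    obtain ⟨q, rfl⟩ := hb.surj y
    obtain ⟨q', rfl⟩ := hb.surj y'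
    rcases (inferInstance : Std.Total ((· ≤ ·) : Ideal V' → Ideal V' → Prop)).total q'.asIdeal q.asIdeal with hle | hle
    · exact ⟨l q, l q', ((PrimeSpectrum.le_iff_specializes _ _).1 hle).map l.continuous, hl q, hl q'⟩
    · have := (((PrimeSpectrum.le_iff_specializes _ _).1 hle).map b.continuous).antisymm hs
      exact ⟨l q, l q, specializes_rfl, hl q, by rw [hl]; exact this.eq⟩

end Groth.Agent.Subtr96
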